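-- PHYP (S5974), regime T2E, package [ASOLVE]: invariant hyperbolic m-spaces for involutions of
-- a-type (characteristic 2), from the decomposition [ADEC].
import Cfsg.Agent.Lib.Helper12.PHyp.T2EDefs

set_option autoImplicit false

namespace Cfsg.Agent.Lib.Helper29.PHyp

open Matrix Cfsg.Agent.Lib.Helper23.OHyp Cfsg.Agent.Lib.Helper12.PHyp

universe u

section basics

variable {F : Type u} [Field F] {ι : Type} [Fintype ι] [DecidableEq ι]

theorem inv_of_le_fixSp (x : Matrix ι ι F) (W : Submodule F (ι → F)) (h : W ≤ fixSp x) :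
    Inv x W := by
  rintro _ ⟨w, hw, rfl⟩
  have h1 := h hw
  unfold fixSp at h1
  rw [LinearMap.mem_ker, LinearMap.sub_apply, sub_eq_zero] at h1
  have h2 : (Matrix.toLin' x) w = w := h1
  rw [h2]
  exact hw

theorem inv_sup (x : Matrix ι ι F) (W₁ W₂ : Submodule F (ι → F)) (h1 : Inv x W₁)
    (h2 : Inv x W₂) : Inv x (W₁ ⊔ W₂) := by
  unfold Cfsg.Agent.Lib.Helper23.OHyp.Inv at *
  rw [Submodule.map_sup]
  exact sup_le_sup h1 h2

theorem perp_mono (Q : (ι → F) → F) {W₁ W₂ W₁' W₂' : Submodule F (ι → F)}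
    (h : Perp Q W₁ W₂) (h1 : W₁' ≤ W₁) (h2 : W₂' ≤ W₂) : Perp Q W₁' W₂' :=
  fun u hu v hv => h u (h1 hu) v (h2 hv)

end basics

/-- **[ASOLVE]** -/
theorem pkgASolve_of (hADec : PkgADec.{u}) (hG : PkgGeom2.{u}) (hSP : PkgSumPlus.{u})
    (hE : PkgNdEven.{u}) : PkgASolve.{u} := by
  intro F _ _ ι _ _ Q x hStd V hInvV hNdV hA m hm
  obtain ⟨s2, V', hV'V, hV'fix, hNdV', hfin, hWA⟩ := hADec F ι Q x hStd V hInvV hNdV hA
  have hQ := hStd.nondeg
  have h2 := hStd.two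
  have hev : Even (Module.finrank F V') := hE F ι Q hQ h2 V' hNdV'
  rw [hfin] at hm
  have key : ∀ t e0 : ℕ, t ≤ s2 → Even e0 → e0 + 2 ≤ Module.finrank F V' →
      HypIn Q x V (4 * t + e0) := by
    intro t e0 ht he0 hle
    obtain ⟨WA, hWAV, hWAinv, hWANd, hWAPlus, hWAfin, hWAperp⟩ := hWA t ht
    obtain ⟨W0, hW0V', hW0Nd, hW0Plus, hW0fin⟩ := hG F ι Q hQ h2 V' hNdV' e0 he0 hle
    obtain ⟨hNd, hPlus, hfr⟩ := hSP F ι Q hQ WA W0 hWANd hW0Nd
      (perp_mono Q hWAperp le_rfl hW0V') hWAPlus hW0Plus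
    refine ⟨WA ⊔ W0, sup_le hWAV (hW0V'.trans hV'V),
      inv_sup x _ _ hWAinv (inv_of_le_fixSp x W0 (hW0V'.trans hV'fix)), hNd, hPlus, ?_⟩
    rw [hfr, hWAfin, hW0fin]
  obtain ⟨r, hr⟩ := hev
  constructor
  · intro hm4
    by_cases hk : m / 4 ≤ s2
    · obtain ⟨WA, hWAV, hWAinv, hWANd, hWAPlus, hWAfin, -⟩ := hWA (m / 4) hk
      exact ⟨WA, hWAV, hWAinv, hWANd, hWAPlus, by rw [hWAfin]; omega⟩
    · have h3 := key s2 (m - 4 * s2) le_rfl ⟨(m - 4 * s2) / 2, by omega⟩ (by omega)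
      have e : 4 * s2 + (m - 4 * s2) = m := by omega
      rwa [e] at h3
  · intro hm2
    rcases Nat.lt_or_ge (Module.finrank F V') 4 with hlt | hge
    · have h02 : Module.finrank F V' = 0 ∨ Module.finrank F V' = 2 := by omega
      rcases h02 with h0 | h2'
      · right; left
        rw [hfin, h0]
        omega
      · by_cases hP : Plus Q V'
        · left
          have hk : (m - 2) / 4 ≤ s2 := by omega
          obtain ⟨WA, hWAV, hWAinv, hWANd, hWAPlus, hWAfin, hWAperp⟩ := hWA ((m - 2) / 4) hk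
          obtain ⟨hNd, hPlus, hfr⟩ := hSP F ι Q hQ WA V' hWANd hNdV' hWAperp hWAPlus hP
          exact ⟨WA ⊔ V', sup_le hWAV hV'V,
            inv_sup x _ _ hWAinv (inv_of_le_fixSp x V' hV'fix), hNd, hPlus,
            by rw [hfr, hWAfin, h2']; omega⟩
        · right; right
          obtain ⟨WA, hWAV, hWAinv, hWANd, hWAPlus, hWAfin, hWAperp⟩ := hWA s2 le_rfl
          obtain ⟨U, hUWA, hUts, hUfin⟩ := hWAPlus
          exact ⟨V', U, hNdV', h2', hP, hUts, perp_mono Q hWAperp hUWA le_rfl,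
            by rw [hUfin, hWAfin, hfin, h2']⟩
    · left
      by_cases hk : (m - 2) / 4 ≤ s2
      · have h3 := key ((m - 2) / 4) 2 hk (by decide) (by omega)
        have e : 4 * ((m - 2) / 4) + 2 = m := by omega
        rwa [e] at h3
      · have h3 := key s2 (m - 4 * s2) le_rfl ⟨(m - 4 * s2) / 2, by omega⟩ (by omega)
        have e : 4 * s2 + (m - 4 * s2) = m := by omega
        rwa [e] at h3

end Cfsg.Agent.Lib.Helper29.PHyp
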